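import Mathlib

/-!
Arithmetic bounds for orders of symplectic semisimple elements.
-/

set_option autoImplicit false
set_option linter.style.haveILetI false

namespace CfsgLib.PSpOrder

theorem odd_part (q : ℕ) (hq : 2 ≤ q) : ∀ l : List ℕ, (∀ d ∈ l, Odd d) →
    ∃ C : ℕ, 0 < C ∧ (∀ d ∈ l, q ^ d + 1 ∣ (q + 1) * C) ∧ C * q ^ l.length ≤ q ^ l.sum := by
  intro l
  induction l with
  | nil => exact fun _ => ⟨1, one_pos, by simp, by simp⟩
  | cons a l ih =>
    intro h
    obtain ⟨C, hC, hd, hle⟩ := ih fun d hd => h d (List.mem_cons_of_mem a hd)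
    have ha := h a List.mem_cons_self
    obtain ⟨c, hc⟩ : q + 1 ∣ q ^ a + 1 := by simpa using ha.nat_add_dvd_pow_add_pow q 1
    have hc0 : 0 < c := by
      rcases Nat.eq_zero_or_pos c with h0 | h0
      · rw [h0, mul_zero] at hc; omega
      · exact h0
    have hcq : c * q ≤ q ^ a := by nlinarith
    refine ⟨c * C, Nat.mul_pos hc0 hC, fun d hd' => ?_, ?_⟩
    · rcases List.mem_cons.mp hd' with rfl | hd'
      · exact ⟨C, by rw [hc]; ring⟩
      · exact (hd d hd').trans ⟨c, by ring⟩
    · calc c * C * q ^ (a :: l).length = (c * q) * (C * q ^ l.length) := by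
            rw [List.length_cons, pow_succ]; ring
        _ ≤ q ^ a * q ^ l.sum := Nat.mul_le_mul hcq hle
        _ = _ := by rw [List.sum_cons, pow_add]

theorem split_sum (l : List ℕ) :
    (l.filter (fun d => decide (Odd d))).sum + 2 * ((l.filter (fun d => decide (¬ Odd d))).map (· / 2)).sum = l.sum := by
  induction l with
  | nil => simp
  | cons a l ih =>
    by_cases ha : Odd a
    · simp only [List.filter_cons, ha, decide_true, decide_false, not_true_eq_false, if_true, List.sum_cons]
      simp only [Bool.false_eq_true, if_false]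
      omega
    · simp only [List.filter_cons, ha, decide_true, decide_false, not_false_eq_true, if_true,
        Bool.false_eq_true, if_false, List.map_cons, List.sum_cons]
      have := (Nat.not_odd_iff.mp ha)
      omega

/-- The least common multiple of the numbers `q^d + 1` is at most `q^(1 + Σ d) / (q - 1)`. -/
theorem lcm_plus : ∀ (n q : ℕ) (l : List ℕ), l.sum = n → 2 ≤ q → (∀ d ∈ l, 0 < d) →
    ∃ M : ℕ, 0 < M ∧ (∀ d ∈ l, q ^ d + 1 ∣ M) ∧ (q - 1) * M ≤ q ^ (n + 1) := by
  intro n
  induction n using Nat.strong_induction_on with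
  | h n ih =>
    intro q l hsum hq hpos
    rcases Nat.eq_zero_or_pos n with rfl | hn
    · refine ⟨1, one_pos, fun d hd => ?_, by simp⟩
      have := List.le_sum_of_mem hd
      have := hpos d hd
      omega
    set lo := l.filter (fun d => decide (Odd d)) with hlo
    set le := (l.filter (fun d => decide (¬ Odd d))).map (· / 2) with hle
    have hS : lo.sum + 2 * le.sum = n := hsum ▸ split_sum l
    have hmle : ∀ d ∈ l, ¬ Odd d → d / 2 ∈ le := fun d hd ho =>
      List.mem_map.mpr ⟨d, List.mem_filter.mpr ⟨hd, decide_eq_true ho⟩, rfl⟩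
    have hlepos : ∀ d ∈ le, 0 < d := fun d hd => by
      obtain ⟨b, hb, rfl⟩ := List.mem_map.mp hd
      obtain ⟨hb, ho⟩ := List.mem_filter.mp hb
      have := hpos b hb
      have := Nat.not_odd_iff.mp (of_decide_eq_true ho)
      omega
    obtain ⟨Me, hMe, hdv, hbd⟩ := ih le.sum (by omega) (q ^ 2) le rfl (by nlinarith) hlepos
    have hsq : q ^ 2 - 1 = (q + 1) * (q - 1) := by simpa using Nat.sq_sub_sq q 1
    have hpow : (q ^ 2) ^ (le.sum + 1) = q ^ (2 * le.sum + 2) := by rw [← pow_mul]; ring_nf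
    rw [hsq, hpow] at hbd
    have hediv : ∀ d ∈ l, ¬ Odd d → q ^ d + 1 ∣ Me := fun d hd ho => by
      have h := hdv _ (hmle d hd ho)
      rwa [← pow_mul, show 2 * (d / 2) = d by have := Nat.not_odd_iff.mp ho; omega] at h
    by_cases hlo0 : lo = []
    · refine ⟨Me, hMe, fun d hd => hediv d hd fun ho => ?_, ?_⟩
      · have : d ∈ lo := List.mem_filter.mpr ⟨hd, decide_eq_true ho⟩
        rw [hlo0] at this
        exact absurd this List.not_mem_nil
      · rw [hlo0, List.sum_nil, zero_add] at hS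
        have h1 : q * ((q - 1) * Me) ≤ q * q ^ (n + 1) := by
          calc q * ((q - 1) * Me) ≤ (q + 1) * ((q - 1) * Me) := Nat.mul_le_mul (Nat.le_succ q) le_rfl
            _ = (q + 1) * (q - 1) * Me := by ring
            _ ≤ q ^ (2 * le.sum + 2) := hbd
            _ = q * q ^ (n + 1) := by rw [hS, ← pow_succ']
        exact Nat.le_of_mul_le_mul_left h1 (by omega)
    obtain ⟨C, hC, hCd, hCle⟩ := odd_part q hq lo fun d hd => of_decide_eq_true (List.mem_filter.mp hd).2
    refine ⟨(q + 1) * C * Me, by positivity, fun d hd => ?_, ?_⟩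
    · by_cases ho : Odd d
      · exact (hCd d (List.mem_filter.mpr ⟨hd, decide_eq_true ho⟩)).trans ⟨Me, rfl⟩
      · exact (hediv d hd ho).trans ⟨(q + 1) * C, by ring⟩
    · have hlen : 1 ≤ lo.length := List.length_pos_of_ne_nil hlo0
      have hCq : C * q ≤ q ^ lo.sum :=
        le_trans (Nat.mul_le_mul le_rfl (by simpa using Nat.pow_le_pow_right (show 0 < q by omega) hlen)) hCle
      have h1 : q * ((q - 1) * ((q + 1) * C * Me)) ≤ q * q ^ (n + 1) := by
        calc q * ((q - 1) * ((q + 1) * C * Me)) = (C * q) * ((q + 1) * (q - 1) * Me) := by ring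
          _ ≤ q ^ lo.sum * q ^ (2 * le.sum + 2) := Nat.mul_le_mul hCq hbd
          _ = q * q ^ (n + 1) := by rw [← pow_add, ← pow_succ', ← hS]; ring_nf
      exact Nat.le_of_mul_le_mul_left h1 (by omega)

/-- Exponent bound: a multiplicity `K` is at most `p^e` with `e` small. -/
theorem exists_pow_ge {p K r : ℕ} (hp : 2 ≤ p) (h : K ≤ 2 ^ r) :
    ∃ e ≤ r, K ≤ p ^ e :=
  ⟨r, le_rfl, h.trans (Nat.pow_le_pow_left hp r)⟩

theorem le_two_pow_pred (K : ℕ) : K ≤ 2 ^ (K - 1) := by
  rcases Nat.eq_zero_or_pos K with rfl | h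
  · simp
  · have := @Nat.lt_two_pow_self (K - 1); omega

theorem le_two_pow_half {K : ℕ} : K = 1 ∨ K ≤ 2 ^ ((K + 1) / 2) := by
  induction K using Nat.strong_induction_on with
  | h K ih =>
    match K with
    | 0 => exact Or.inr (by simp)
    | 1 => exact Or.inl rfl
    | 2 => exact Or.inr (by norm_num)
    | 3 => exact Or.inr (by norm_num)
    | (k + 4) =>
      refine Or.inr ?_
      rcases ih (k + 2) (by omega) with h | h
      · omega
      rw [show (k + 4 + 1) / 2 = (k + 2 + 1) / 2 + 1 by omega, pow_succ]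
      omega

theorem two_m_le_three_pow : ∀ m : ℕ, 3 ≤ m → 2 * m ≤ 3 ^ (m - 1)
  | 0, h => by omega
  | 1, h => by omega
  | 2, h => by omega
  | 3, _ => by norm_num
  | (m + 4), _ => by
    have := two_m_le_three_pow (m + 3) (by omega)
    rw [show m + 4 - 1 = (m + 3 - 1) + 1 by omega, pow_succ]
    omega

theorem two_m_le_two_pow : ∀ m : ℕ, 1 ≤ m → 2 * m ≤ 2 ^ m
  | 0, h => by omega
  | 1, _ => by norm_num
  | (m + 2), _ => by
    have := two_m_le_two_pow (m + 1) (by omega)
    rw [pow_succ]
    omega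

end CfsgLib.PSpOrder
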