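import Cfsg.Agent.Lib.PSpOrder.Roots

/-!
Orders of matrices with self-reciprocal characteristic polynomial, up to scalars.
-/

set_option autoImplicit false
set_option linter.style.haveILetI false

namespace CfsgLib.PSpOrder

open Polynomial

universe u
variable {F : Type u} [Field F]

theorem two_add_one_le_three_pow : ∀ r : ℕ, 2 * r + 1 ≤ 3 ^ r
  | 0 => by simp
  | (r + 1) => by
    have := two_add_one_le_three_pow r
    rw [pow_succ]
    omega

theorem reverse_X_sub_C {a : F} (ha : a ≠ 0) : (X - C a).reverse = C (-a) * (X - C a⁻¹) := by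
  ext n
  rw [coeff_reverse, natDegree_X_sub_C, coeff_C_mul, coeff_sub, coeff_sub]
  match n with
  | 0 => simp [revAt_le, coeff_X, coeff_C, mul_inv_cancel₀ ha]
  | 1 => simp [revAt_le, coeff_X, coeff_C]
  | (k + 2) =>
    rw [revAt_eq_self_of_lt (by omega)]
    simp [coeff_X, coeff_C]

theorem reverse_prod (s : Multiset F) (h0 : (0 : F) ∉ s) :
    ∃ c : F, c ≠ 0 ∧ (s.map fun a => X - C a).prod.reverse = C c * ((s.map (·⁻¹)).map fun a => X - C a).prod := by
  induction s using Multiset.induction_on with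
  | empty => exact ⟨1, one_ne_zero, by simp [show (1 : F[X]).reverse = 1 by rw [← C_1, reverse_C]]⟩
  | cons a s ih =>
    simp only [Multiset.mem_cons, not_or] at h0
    obtain ⟨c, hc, e⟩ := ih h0.2
    refine ⟨-a * c, mul_ne_zero (neg_ne_zero.mpr (Ne.symm h0.1)) hc, ?_⟩
    simp only [Multiset.map_cons, Multiset.prod_cons, reverse_mul_of_domain, e, reverse_X_sub_C (Ne.symm h0.1), C_mul]
    ring

theorem reverse_map_field {K : Type u} [Field K] (φ : F →+* K) (f : F[X]) :
    f.reverse.map φ = (f.map φ).reverse := by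
  ext n
  rw [coeff_map, coeff_reverse, coeff_reverse, coeff_map, natDegree_map_eq_of_injective φ.injective]

/-- Projective order bound. -/
theorem order_bound [Fintype F] {ι : Type*} [Fintype ι] [DecidableEq ι] (m : ℕ) (hm : 2 ≤ m)
    (hcard : Fintype.card ι = 2 * m ∨ (Fintype.card ι = 2 * m + 1 ∧ Odd (Fintype.card F) ∧ 3 ≤ m))
    (g : Matrix ι ι F) (hg : IsUnit g) (hrev : g⁻¹.charpoly = g.charpoly) :
    ∃ N : ℕ, 0 < N ∧ (∃ c : F, g ^ N = c • (1 : Matrix ι ι F)) ∧
      (Fintype.card F - 1) * N ≤ Fintype.card F ^ (m + 1) := by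
  classical
  obtain ⟨p, hp⟩ := CharP.exists F
  haveI : Fact p.Prime := ⟨CharP.char_is_prime F p⟩
  obtain ⟨f, hpp, hq⟩ := FiniteField.card F p
  have hp2 := (Fact.out : p.Prime).two_le
  set q := Fintype.card F with hqdef
  have hq2 : 2 ≤ q := Fintype.one_lt_card
  have hpq : p ≤ q := hq ▸ Nat.le_self_pow f.pos.ne' p
  let K := AlgebraicClosure F
  haveI : CharP K p := charP_of_injective_algebraMap (algebraMap F K).injective p
  set χ := g.charpoly.map (algebraMap F K) with hχ
  have hmon : χ.Monic := g.charpoly_monic.map _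
  have hspl : χ.Splits := IsAlgClosed.splits χ
  set Rts := χ.roots with hRts
  set n := Fintype.card ι with hn
  have hdeg : Multiset.card Rts = n := by
    rw [hRts, splits_iff_card_roots.mp hspl, hχ, g.charpoly_monic.natDegree_map, Matrix.charpoly_natDegree_eq_dim]
  have hn2 : n ≤ 2 * m + 1 := by rcases hcard with h | ⟨h, -⟩ <;> omega
  have hcase : n ≤ 2 * m ∨ (3 ≤ p ∧ 3 ≤ m) := by
    rcases hcard with h | ⟨h, hodd, hm3⟩
    · exact Or.inl h.le
    · refine Or.inr ⟨?_, hm3⟩
      by_contra h'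
      have hp' : p = 2 := by omega
      rw [hq, hp'] at hodd
      simp [Nat.odd_iff, Nat.pow_mod, f.pos.ne'] at hodd
  have hdet : IsUnit g.det := (Matrix.isUnit_iff_isUnit_det g).mp hg
  obtain ⟨c, hc⟩ : ∃ c : F, g.charpoly = C c * g.charpoly.reverse := by
    refine ⟨(-1) ^ n * Ring.inverse g.det, ?_⟩
    have h := Matrix.charpoly_inv g hg
    rw [hrev, ← Matrix.reverse_charpoly] at h
    rw [C_mul, C_pow, C_neg, C_1]
    exact h
  have h0 : (0 : K) ∉ Rts := fun h => by
    rw [hRts, mem_roots hmon.ne_zero, IsRoot.def, ← coeff_zero_eq_eval_zero, hχ, coeff_map,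
      map_eq_zero] at h
    refine hdet.ne_zero ?_
    rw [Matrix.det_eq_sign_charpoly_coeff, h, mul_zero]
  have hχeq : χ = (Rts.map fun a => X - C a).prod := hspl.eq_prod_roots_of_monic hmon
  have hsym : Rts.map (·⁻¹) = Rts := by
    obtain ⟨d, hd, he⟩ := reverse_prod Rts h0
    have h1 : χ = C (algebraMap F K c) * χ.reverse := by
      conv_lhs => rw [hχ, hc, Polynomial.map_mul, map_C, reverse_map_field]
    rw [← hχeq] at he
    rw [he, ← mul_assoc, ← C_mul] at h1
    have hcd : algebraMap F K c * d ≠ 0 := fun h => hmon.ne_zero (by rw [h1, h, C_0, zero_mul])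
    have := congrArg Polynomial.roots h1
    rw [roots_C_mul _ hcd, roots_multiset_prod_X_sub_C] at this
    exact this.symm
  have hinj : Function.Injective (fun x : K => x ^ q) := by
    intro x y h
    rw [hq] at h
    exact iterateFrobenius_inj K p (f : ℕ) (by simpa only [iterateFrobenius_def] using h)
  have hfrob : ∀ x ∈ Rts, x ^ q ∈ Rts := fun x hx => by
    rw [hRts, mem_roots hmon.ne_zero, IsRoot.def, hχ, eval_map, ← aeval_def] at hx ⊢
    rw [← expand_aeval, FiniteField.expand_card, map_pow, hx, zero_pow (by omega)]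
  have hfinv : ∀ x ∈ Rts, x⁻¹ ∈ Rts := fun x hx => hsym ▸ Multiset.mem_map_of_mem (·⁻¹) hx
  have hcinv : ∀ x : K, Rts.count x⁻¹ = Rts.count x := fun x => by
    conv_lhs => rw [← hsym]
    exact Multiset.count_map_eq_count' _ Rts inv_injective x
  set S := Rts.toFinset with hS
  set R := S.filter (fun x => x ^ 2 ≠ 1) with hR
  have hRS : ∀ x ∈ R, x ∈ Rts := fun x hx => Multiset.mem_toFinset.mp (Finset.mem_filter.mp hx).1
  obtain ⟨s, L, hs, hL, hkill, hbound, heven⟩ := exists_exponent q hq2 hinj R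
    (fun x hx => ⟨fun h => h0 (h ▸ hRS x hx), (Finset.mem_filter.mp hx).2⟩)
    (fun x hx => Finset.mem_filter.mpr ⟨Multiset.mem_toFinset.mpr (hfrob x (hRS x hx)), fun h =>
      (Finset.mem_filter.mp hx).2 (hinj (by simp only [one_pow]; rwa [← pow_mul, mul_comm, pow_mul]))⟩)
    (fun x hx => Finset.mem_filter.mpr ⟨Multiset.mem_toFinset.mpr (hfinv x (hRS x hx)), fun h =>
      (Finset.mem_filter.mp hx).2 (by rwa [inv_pow, inv_eq_one] at h)⟩)
  have hpm1 : ∀ x ∈ Rts, x ∉ R → x = 1 ∨ x = -1 := fun x hx hxR => by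
    have : x ^ 2 = 1 := by
      by_contra h
      exact hxR (Finset.mem_filter.mpr ⟨Multiset.mem_toFinset.mpr hx, h⟩)
    exact sq_eq_one_iff.mp this
  -- divisibility
  have hmain : ∀ (E e : ℕ) (a : F), a ≠ 0 → 0 < E →
      (∀ x ∈ Rts, x ^ E = algebraMap F K a ∧ Rts.count x ≤ p ^ e) →
      g ^ (E * p ^ e) = a ^ p ^ e • (1 : Matrix ι ι F) := by
    intro E e a ha hE hroots
    have hdvd : χ ∣ ((X ^ (E * p ^ e) - C (a ^ p ^ e) : F[X]).map (algebraMap F K)) := by
      have hpe : (X ^ (E * p ^ e) - C (a ^ p ^ e) : F[X]).map (algebraMap F K) =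
          (X ^ E - C (algebraMap F K a)) ^ p ^ e := by
        rw [Polynomial.map_sub, Polynomial.map_pow, map_X, map_C, sub_pow_char_pow, ← pow_mul, map_pow, C_pow]
      have hne : (X ^ E - C (algebraMap F K a)) ^ p ^ e ≠ 0 := pow_ne_zero _ (X_pow_sub_C_ne_zero hE _)
      rw [hpe, hχeq, Multiset.prod_X_sub_C_dvd_iff_le_roots hne, Multiset.le_iff_count]
      intro x
      by_cases hx : x ∈ Rts
      · refine (hroots x hx).2.trans ?_
        rw [roots_pow, Multiset.count_nsmul]
        refine Nat.le_mul_of_pos_right _ (Multiset.count_pos.mpr ?_)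
        rw [mem_roots (X_pow_sub_C_ne_zero hE _)]
        simp [(hroots x hx).1]
      · rw [Multiset.count_eq_zero.mpr hx]; exact Nat.zero_le _
    rw [hχ, map_dvd_map' (algebraMap F K)] at hdvd
    obtain ⟨r, hr⟩ := hdvd
    have h := congrArg (aeval g) hr
    rw [map_mul, Matrix.aeval_self_charpoly, zero_mul, map_sub, map_pow, aeval_X, aeval_C, sub_eq_zero] at h
    rw [h, Algebra.algebraMap_eq_smul_one]
  by_cases hRne : R.Nonempty
  · -- semisimple part nontrivial
    set k := Finset.sup S (fun x => Rts.count x) with hk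
    have hkle : ∀ x ∈ Rts, Rts.count x ≤ k := fun x hx =>
      Finset.le_sup (f := fun x => Rts.count x) (Multiset.mem_toFinset.mpr hx)
    obtain ⟨e, he, hke⟩ : ∃ e, s + e ≤ m ∧ k ≤ p ^ e := by
      have hsum : ∑ x ∈ S, Rts.count x = n := by rw [hS, Multiset.toFinset_sum_count_eq, hdeg]
      obtain ⟨x0, hx0, hx0k⟩ := Finset.exists_mem_eq_sup S (hRne.mono (Finset.filter_subset (fun x => x ^ 2 ≠ 1) S)) (fun x => Rts.count x)
      have hx0k : k = Rts.count x0 := hx0k
      have h1 : ∀ x ∈ R, 1 ≤ Rts.count x := fun x hx => Multiset.count_pos.mpr (hRS x hx)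
      by_cases hx0R : x0 ∈ R
      · have hne : x0⁻¹ ≠ x0 := fun h => (Finset.mem_filter.mp hx0R).2 (by
          rw [pow_two]; nth_rewrite 2 [← h]; exact mul_inv_cancel₀ fun h' => h0 (h' ▸ hRS _ hx0R))
        have hiR : x0⁻¹ ∈ R := Finset.mem_filter.mpr ⟨Multiset.mem_toFinset.mpr (hfinv _ (hRS _ hx0R)), fun h =>
          (Finset.mem_filter.mp hx0R).2 (by rwa [inv_pow, inv_eq_one] at h)⟩
        have hT : R.card + 2 * (k - 1) ≤ n := by
          rw [← hsum]
          refine le_trans ?_ (Finset.sum_le_sum_of_subset (Finset.filter_subset (fun x => x ^ 2 ≠ 1) S))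
          have e1 := Finset.sum_erase_add R (fun x => Rts.count x) hx0R
          have e2 := Finset.sum_erase_add (R.erase x0) (fun x => Rts.count x)
            (Finset.mem_erase.mpr ⟨hne, hiR⟩)
          have e3 := Finset.card_nsmul_le_sum ((R.erase x0).erase x0⁻¹) (fun x => Rts.count x) 1
            (fun x hx => h1 x (Finset.mem_of_mem_erase (Finset.mem_of_mem_erase hx)))
          rw [Finset.card_erase_of_mem (Finset.mem_erase.mpr ⟨hne, hiR⟩), Finset.card_erase_of_mem hx0R,
            smul_eq_mul, mul_one] at e3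
          have e4 : 2 ≤ R.card := Finset.one_lt_card.mpr ⟨x0, hx0R, x0⁻¹, hiR, hne.symm⟩
          simp only [hcinv] at e2
          have := h1 x0 hx0R
          rw [← hR]
          omega
        refine ⟨k - 1, by omega, (le_two_pow_pred k).trans (Nat.pow_le_pow_left hp2 _)⟩
      · have hT : R.card + k ≤ n := by
          rw [← hsum, ← Finset.sum_sdiff (Finset.filter_subset (fun x => x ^ 2 ≠ 1) S), hx0k]
          have e3 := Finset.card_nsmul_le_sum R (fun x => Rts.count x) 1 h1
          have e4 : Rts.count x0 ≤ ∑ x ∈ S \ R, Rts.count x :=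
            Finset.single_le_sum (f := fun x => Rts.count x) (fun _ _ => Nat.zero_le _)
              (Finset.mem_sdiff.mpr ⟨hx0, hx0R⟩)
          rw [smul_eq_mul, mul_one] at e3
          simp only [← hR]
          omega
        rcases hcase with hc' | ⟨hp3, -⟩
        · rcases le_two_pow_half (K := k) with h | h
          · exact ⟨0, by omega, by rw [h, pow_zero]⟩
          · exact ⟨(k + 1) / 2, by omega, h.trans (Nat.pow_le_pow_left hp2 _)⟩
        · exact ⟨k / 2, by omega, le_trans (le_trans (by omega) (two_add_one_le_three_pow (k / 2)))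
            (Nat.pow_le_pow_left hp3 _)⟩
    refine ⟨L * p ^ e, by positivity, ⟨1 ^ p ^ e, hmain L e 1 one_ne_zero hL fun x hx => ⟨?_, (hkle x hx).trans hke⟩⟩, ?_⟩
    · rw [map_one]
      by_cases hxR : x ∈ R
      · exact hkill x hxR
      rcases hpm1 x hx hxR with rfl | rfl
      · exact one_pow L
      · rcases (Fact.out : p.Prime).eq_two_or_odd' with hp' | hp'
        · subst hp'
          haveI := ‹CharP K 2›
          rw [CharTwo.neg_eq, one_pow]
        · exact (heven hRne (hq ▸ hp'.pow)).neg_one_pow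
    · calc (q - 1) * (L * p ^ e) = (q - 1) * L * p ^ e := by ring
        _ ≤ q ^ (s + 1) * q ^ e := Nat.mul_le_mul hbound (Nat.pow_le_pow_left hpq e)
        _ ≤ q ^ (m + 1) := by rw [← pow_add]; exact Nat.pow_le_pow_right (by omega) (by omega)
  -- only `±1`
  have hall : ∀ x ∈ Rts, x = 1 ∨ x = -1 := fun x hx => hpm1 x hx (fun h => hRne ⟨x, h⟩)
  by_cases hsingle : ∃ a : F, a ≠ 0 ∧ ∀ x ∈ Rts, x = algebraMap F K a
  · obtain ⟨a, ha, hx⟩ := hsingle
    refine ⟨1 * p ^ m, by positivity, ⟨_, hmain 1 m a ha one_pos fun x h => ⟨by rw [pow_one, hx x h], ?_⟩⟩, ?_⟩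
    · refine ((Multiset.count_le_card x Rts).trans hdeg.le).trans ?_
      rcases hcase with hc' | ⟨hp3, -⟩
      · exact hc'.trans ((two_m_le_two_pow m (by omega)).trans (Nat.pow_le_pow_left hp2 m))
      · exact hn2.trans ((two_add_one_le_three_pow m).trans (Nat.pow_le_pow_left hp3 m))
    · rw [one_mul, pow_succ']
      exact Nat.mul_le_mul (Nat.sub_le q 1) (Nat.pow_le_pow_left hpq m)
  push Not at hsingle
  obtain ⟨x1, hx1, hx1'⟩ := hsingle 1 one_ne_zero
  obtain ⟨x2, hx2, hx2'⟩ := hsingle (-1) (neg_ne_zero.mpr one_ne_zero)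
  rw [map_one] at hx1'
  rw [map_neg, map_one] at hx2'
  have h1m : x1 = -1 := (hall x1 hx1).resolve_left hx1'
  have h2m : x2 = 1 := (hall x2 hx2).resolve_right hx2'
  have hp3 : 3 ≤ p := by
    by_contra h
    have hp' : p = 2 := by omega
    subst hp'
    haveI := ‹CharP K 2›
    exact hx1' (by rw [h1m, CharTwo.neg_eq])
  have hcount : ∀ x ∈ Rts, Rts.count x ≤ n - 1 := fun x hx => by
    obtain ⟨y, hy, hyx⟩ : ∃ y ∈ Rts, y ≠ x := by
      by_cases h : x = x1
      · exact ⟨x2, hx2, fun h' => hx1' (by rw [← h, ← h', h2m])⟩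
      · exact ⟨x1, hx1, Ne.symm h⟩
    have h := Multiset.count_le_card x (Rts.erase y)
    rw [Multiset.count_erase_of_ne (Ne.symm hyx), Multiset.card_erase_of_mem hy, hdeg] at h
    exact h
  refine ⟨2 * p ^ (m - 1), by positivity, ⟨1 ^ p ^ (m - 1), hmain 2 (m - 1) 1 one_ne_zero two_pos fun x hx => ⟨?_, ?_⟩⟩, ?_⟩
  · rcases hall x hx with rfl | rfl <;> simp
  · refine (hcount x hx).trans ?_
    rcases eq_or_lt_of_le hm with rfl | hm'
    · rcases hcase with hc' | ⟨-, h⟩
      · simp only [show (2 : ℕ) - 1 = 1 by norm_num, pow_one]; omega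
      · omega
    · exact le_trans (by omega) ((two_m_le_three_pow m hm').trans (Nat.pow_le_pow_left hp3 _))
  · have : q * q ^ (m - 1) = q ^ m := by rw [← pow_succ', show m - 1 + 1 = m by omega]
    calc (q - 1) * (2 * p ^ (m - 1)) ≤ q * (q * q ^ (m - 1)) :=
          Nat.mul_le_mul (Nat.sub_le q 1) (Nat.mul_le_mul hq2 (Nat.pow_le_pow_left hpq _))
      _ = q ^ (m + 1) := by rw [this, pow_succ']

end CfsgLib.PSpOrder
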