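import Cfsg.Agent.Lib.PSpOrder.Arith

/-!
Exponents killing a finite set of roots closed under Frobenius and inversion.
-/

set_option autoImplicit false
set_option linter.style.haveILetI false

namespace CfsgLib.PSpOrder

open Finset

universe u
variable {K : Type u} [Field K]

/-- Data killing the elements of `R`. -/
def Killed (q : ℕ) (R : Finset K) : Prop :=
  ∃ (s t B : ℕ) (l : List ℕ), R.card = 2 * s ∧ 0 < B ∧ B ≤ q ^ t ∧ t + l.sum ≤ s ∧ (∀ d ∈ l, 0 < d) ∧
    (∀ x ∈ R, x ^ B = 1 ∨ ∃ d ∈ l, x ^ (q ^ d + 1) = 1) ∧ (R.Nonempty → Odd q → Even B ∨ l ≠ [])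

theorem killed (q : ℕ) (hq : 2 ≤ q) (hinj : Function.Injective (fun x : K => x ^ q)) :
    ∀ (n : ℕ) (R : Finset K), R.card = n → (∀ x ∈ R, x ≠ 0 ∧ x ^ 2 ≠ 1) → (∀ x ∈ R, x ^ q ∈ R) →
      (∀ x ∈ R, x⁻¹ ∈ R) → Killed q R := by
  classical
  intro n
  induction n using Nat.strong_induction_on with
  | h n ih =>
    intro R hn hne hF hI
    rcases R.eq_empty_or_nonempty with rfl | ⟨α, hα⟩
    · exact ⟨0, 0, 1, [], rfl, one_pos, by simp, by simp, by simp, by simp, by simp⟩
    have hinjn : ∀ i : ℕ, Function.Injective (fun x : K => x ^ q ^ i) := fun i => by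
      induction i with
      | zero => simp [Function.Injective]
      | succ i ihi =>
        intro x y h
        simp only [pow_succ, pow_mul] at h
        exact ihi (hinj h)
    have hmem : ∀ i, α ^ q ^ i ∈ R := fun i => by
      induction i with
      | zero => simpa using hα
      | succ i ihi => rw [pow_succ, pow_mul]; exact hF _ ihi
    have hback : ∀ i j : ℕ, i < j → α ^ q ^ i = α ^ q ^ j → α ^ q ^ (j - i) = α := fun i j hlt hij => hinjn i (by
      show (α ^ q ^ (j - i)) ^ q ^ i = α ^ q ^ i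
      rw [← pow_mul, ← pow_add, show j - i + i = j by omega, hij])
    have hex : ∃ d, 0 < d ∧ α ^ q ^ d = α := by
      obtain ⟨i, j, hne', hij⟩ := Finite.exists_ne_map_eq_of_infinite (fun i : ℕ => (⟨α ^ q ^ i, hmem i⟩ : R))
      have hij' : α ^ q ^ i = α ^ q ^ j := congrArg Subtype.val hij
      rcases lt_or_gt_of_ne hne' with h | h
      · exact ⟨j - i, by omega, hback i j h hij'⟩
      · exact ⟨i - j, by omega, hback j i h hij'.symm⟩
    let d := Nat.find hex
    have hd : 0 < d ∧ α ^ q ^ d = α := Nat.find_spec hex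
    have hper : ∀ i, α ^ q ^ i = α ^ q ^ (i % d) := fun i => by
      conv_lhs => rw [← Nat.mod_add_div i d]
      generalize i / d = k
      induction k with
      | zero => simp
      | succ k ihk =>
        rw [show i % d + d * (k + 1) = d + (i % d + d * k) by ring, pow_add, pow_mul, hd.2, ihk]
    set O := (Finset.range d).image (fun i => α ^ q ^ i) with hO
    have hmemO : ∀ i, α ^ q ^ i ∈ O := fun i =>
      Finset.mem_image.mpr ⟨i % d, Finset.mem_range.mpr (Nat.mod_lt i hd.1), (hper i).symm⟩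
    have hOc : O.card = d := by
      rw [Finset.card_image_of_injOn, Finset.card_range]
      intro i hi j hj h
      simp only [Finset.coe_range, Set.mem_Iio] at hi hj
      by_contra hij
      rcases lt_or_gt_of_ne hij with hlt | hlt
      · exact Nat.find_min hex (show j - i < d by omega) ⟨by omega, hback i j hlt h⟩
      · exact Nat.find_min hex (show i - j < d by omega) ⟨by omega, hback j i hlt h.symm⟩
    have hOR : O ⊆ R := Finset.image_subset_iff.mpr fun i _ => hmem i
    have hOF : ∀ x ∈ O, x ^ q ∈ O := fun x hx => by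
      obtain ⟨i, -, rfl⟩ := Finset.mem_image.mp hx
      rw [← pow_mul, ← pow_succ]
      exact hmemO (i + 1)
    have hOF' : ∀ x ∈ R, x ∉ O → x ^ q ∉ O := fun x _ hxO h => by
      obtain ⟨i, -, hi⟩ := Finset.mem_image.mp h
      apply hxO
      have : x = α ^ q ^ (i + d - 1) := hinj (by
        show x ^ q = (α ^ q ^ (i + d - 1)) ^ q
        rw [← hi, ← pow_mul, ← pow_succ, show i + d - 1 + 1 = d + i by have := hd.1; omega, pow_add, pow_mul, hd.2])
      rw [this]
      exact hmemO _
    have hα0 : α ≠ 0 := (hne α hα).1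
    by_cases hinvO : α⁻¹ ∈ O
    · obtain ⟨e, he, he'⟩ := Finset.mem_image.mp hinvO
      rw [Finset.mem_range] at he
      have he0 : 0 < e := by
        rcases Nat.eq_zero_or_pos e with rfl | h
        · rw [pow_zero, pow_one] at he'
          exact absurd (by rw [pow_two]; nth_rewrite 2 [he']; exact mul_inv_cancel₀ hα0) (hne α hα).2
        · exact h
      have h2e : α ^ q ^ (e + e) = α := by
        rw [pow_add, pow_mul, he', inv_pow, he', inv_inv]
      have hde : d = 2 * e := by
        have hm : α ^ q ^ ((e + e) % d) = α := by rw [← hper, h2e]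
        rcases Nat.eq_zero_or_pos ((e + e) % d) with h0 | h0
        · obtain ⟨k, hk⟩ := Nat.dvd_of_mod_eq_zero h0
          match k with
          | 0 => omega
          | 1 => omega
          | (k + 2) => nlinarith
        · exact absurd ⟨h0, hm⟩ (Nat.find_min hex (Nat.mod_lt _ hd.1))
      have hOI : ∀ x ∈ O, x⁻¹ ∈ O := fun x hx => by
        obtain ⟨i, -, rfl⟩ := Finset.mem_image.mp hx
        rw [← inv_pow, ← he', ← pow_mul, ← pow_add]
        exact hmemO _
      have hlt : (R \ O).card < n := by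
        rw [Finset.card_sdiff_of_subset hOR, hn, hOc]; have := hn ▸ Finset.card_le_card hOR; omega
      obtain ⟨s, t, B, l, hs, hB, hBt, hts, hl, hx, -⟩ := ih _ hlt (R \ O) rfl
        (fun x hx => hne x (Finset.mem_sdiff.mp hx).1)
        (fun x hx => Finset.mem_sdiff.mpr ⟨hF x (Finset.mem_sdiff.mp hx).1, hOF' x (Finset.mem_sdiff.mp hx).1 (Finset.mem_sdiff.mp hx).2⟩)
        (fun x hx => Finset.mem_sdiff.mpr ⟨hI x (Finset.mem_sdiff.mp hx).1, fun h => (Finset.mem_sdiff.mp hx).2 (inv_inv x ▸ hOI _ h)⟩)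
      refine ⟨s + e, t, B, e :: l, ?_, hB, hBt, by rw [List.sum_cons]; omega, ?_, fun x hxR => ?_,
        fun _ _ => Or.inr (List.cons_ne_nil _ _)⟩
      · have := Finset.card_sdiff_add_card_eq_card hOR
        omega
      · intro b hb
        rcases List.mem_cons.mp hb with rfl | hb
        · exact he0
        · exact hl b hb
      · by_cases hxO : x ∈ O
        · obtain ⟨i, -, rfl⟩ := Finset.mem_image.mp hxO
          refine Or.inr ⟨e, List.mem_cons_self, ?_⟩
          rw [← pow_mul, mul_comm, pow_mul, pow_succ, he', inv_mul_cancel₀ hα0, one_pow]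
        · rcases hx x (Finset.mem_sdiff.mpr ⟨hxR, hxO⟩) with h | ⟨b, hb, h⟩
          · exact Or.inl h
          · exact Or.inr ⟨b, List.mem_cons_of_mem _ hb, h⟩
    · set O' := O.image (·⁻¹) with hO'
      have hdis : Disjoint O O' := by
        rw [Finset.disjoint_left]
        intro x hx hx'
        obtain ⟨y, hy, rfl⟩ := Finset.mem_image.mp hx'
        obtain ⟨j, hjr, rfl⟩ := Finset.mem_image.mp hy
        obtain ⟨i, -, hi⟩ := Finset.mem_image.mp hx
        rw [Finset.mem_range] at hjr
        apply hinvO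
        have h1 : (α⁻¹) ^ q ^ j = α ^ q ^ i := by rw [inv_pow, hi]
        have h2 : α⁻¹ = α ^ q ^ (i + (d - j)) := hinjn j (by
          show (α⁻¹) ^ q ^ j = (α ^ q ^ (i + (d - j))) ^ q ^ j
          rw [h1, ← pow_mul, ← pow_add, show i + (d - j) + j = d + i by omega, pow_add, pow_mul, hd.2])
        rw [h2]; exact hmemO _
      have hO'R : O' ⊆ R := Finset.image_subset_iff.mpr fun x hx => hI x (hOR hx)
      have hU : O ∪ O' ⊆ R := Finset.union_subset hOR hO'R
      have hUc : (O ∪ O').card = 2 * d := by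
        rw [Finset.card_union_of_disjoint hdis, Finset.card_image_of_injective _ inv_injective, hOc]; ring
      have hlt : (R \ (O ∪ O')).card < n := by
        rw [Finset.card_sdiff_of_subset hU, hn, hUc]; have := hn ▸ Finset.card_le_card hU; have := hd.1; omega
      obtain ⟨s, t, B, l, hs, hB, hBt, hts, hl, hx, -⟩ := ih _ hlt (R \ (O ∪ O')) rfl
        (fun x hx => hne x (Finset.mem_sdiff.mp hx).1)
        (fun x hx => by
          obtain ⟨hxR, hxU⟩ := Finset.mem_sdiff.mp hx
          refine Finset.mem_sdiff.mpr ⟨hF x hxR, fun h => ?_⟩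
          rcases Finset.mem_union.mp h with h | h
          · exact hOF' x hxR (fun h' => hxU (Finset.mem_union_left _ h')) h
          · obtain ⟨y, hy, hy'⟩ := Finset.mem_image.mp h
            refine hOF' x⁻¹ (hI x hxR) (fun h' => hxU (Finset.mem_union_right _
              (Finset.mem_image.mpr ⟨_, h', inv_inv x⟩))) ?_
            rwa [inv_pow, ← hy', inv_inv])
        (fun x hx => by
          obtain ⟨hxR, hxU⟩ := Finset.mem_sdiff.mp hx
          refine Finset.mem_sdiff.mpr ⟨hI x hxR, fun h => hxU ?_⟩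
          rcases Finset.mem_union.mp h with h | h
          · exact Finset.mem_union_right _ (Finset.mem_image.mpr ⟨_, h, inv_inv x⟩)
          · obtain ⟨y, hy, hy'⟩ := Finset.mem_image.mp h
            exact Finset.mem_union_left _ (inv_injective hy' ▸ hy))
      have h1q : 1 ≤ q ^ d := Nat.one_le_pow _ _ (by omega)
      have hqd : 2 ≤ q ^ d := le_trans hq (Nat.le_self_pow (by omega) q)
      refine ⟨s + d, t + d, B * (q ^ d - 1), l, ?_, Nat.mul_pos hB (by omega), ?_, by omega, hl, fun x hxR => ?_,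
        fun _ hodd => Or.inl (Even.mul_left ?_ _)⟩
      · have := Finset.card_sdiff_add_card_eq_card hU
        omega
      · rw [pow_add]; exact Nat.mul_le_mul hBt (Nat.sub_le _ _)
      · have hkill : ∀ y ∈ O, y ^ (q ^ d - 1) = 1 := fun y hy => by
          obtain ⟨i, -, rfl⟩ := Finset.mem_image.mp hy
          have : α ^ (q ^ d - 1) = 1 := by
            have h' : α ^ (q ^ d - 1) * α = α := by rw [← pow_succ, Nat.sub_add_cancel h1q, hd.2]
            simpa [hα0] using h'
          rw [← pow_mul, mul_comm, pow_mul, this, one_pow]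
        by_cases hxU : x ∈ O ∪ O'
        · left
          rw [mul_comm, pow_mul]
          rcases Finset.mem_union.mp hxU with h | h
          · rw [hkill x h, one_pow]
          · obtain ⟨y, hy, rfl⟩ := Finset.mem_image.mp h
            rw [inv_pow, hkill y hy, inv_one, one_pow]
        · rcases hx x (Finset.mem_sdiff.mpr ⟨hxR, hxU⟩) with h | ⟨b, hb, h⟩
          · left; rw [pow_mul, h, one_pow]
          · exact Or.inr ⟨b, hb, h⟩
      · exact (Nat.Odd.sub_odd (hodd.pow) odd_one)

/-- One exponent killing all of `R`. -/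
theorem exists_exponent (q : ℕ) (hq : 2 ≤ q) (hinj : Function.Injective (fun x : K => x ^ q)) (R : Finset K)
    (hne : ∀ x ∈ R, x ≠ 0 ∧ x ^ 2 ≠ 1) (hF : ∀ x ∈ R, x ^ q ∈ R) (hI : ∀ x ∈ R, x⁻¹ ∈ R) :
    ∃ s L : ℕ, R.card = 2 * s ∧ 0 < L ∧ (∀ x ∈ R, x ^ L = 1) ∧ (q - 1) * L ≤ q ^ (s + 1) ∧
      (R.Nonempty → Odd q → Even L) := by
  obtain ⟨s, t, B, l, hs, hB, hBt, hts, hl, hx, hev⟩ := killed q hq hinj _ R rfl hne hF hI
  obtain ⟨M, hM, hMd, hMb⟩ := lcm_plus _ q l rfl hq hl
  refine ⟨s, B * M, hs, Nat.mul_pos hB hM, fun x hxR => ?_, ?_, fun hR hodd => ?_⟩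
  · rcases hx x hxR with h | ⟨d, hd, h⟩
    · rw [pow_mul, h, one_pow]
    · obtain ⟨c, hc⟩ := hMd d hd
      rw [hc, mul_comm B, mul_assoc, pow_mul, h, one_pow]
  · calc (q - 1) * (B * M) = B * ((q - 1) * M) := by ring
      _ ≤ q ^ t * q ^ (l.sum + 1) := Nat.mul_le_mul hBt hMb
      _ = q ^ (t + l.sum + 1) := by rw [← pow_add]; rfl
      _ ≤ q ^ (s + 1) := Nat.pow_le_pow_right (by omega) (by omega)
  · rcases hev hR hodd with h | h
    · exact h.mul_right _
    · obtain ⟨d, hd⟩ := List.exists_mem_of_ne_nil l h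
      obtain ⟨c, hc⟩ := hMd d hd
      rw [hc]
      exact Even.mul_left ((hodd.pow.add_odd odd_one).mul_right c) B

end CfsgLib.PSpOrder
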